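import Cfsg.Agent.BNPair.Parabolic

/-!
Fixed cosets of an element of `B` in a `(B,N)`-pair of rank two: `|Fix G/B| + 1 = |Fix G/Pₛ| + |Fix G/Pₜ|`
when no fixed coset has two descents (owner: helper33).
-/

set_option autoImplicit false

namespace Cfsg.Agent.ChevTwSec

open Cfsg.Agent.BNPair

variable {G : Type*} [Group G] (P : Cfsg.BNPair G)

/-- The length rises at `s`. -/
def Asc (s : P.S) (g : G) : Prop := len P (bw P g) ≤ len P (bw P g * σ P s)

theorem bw_mul_parabolic (s : P.S) {g p : G} (hg : Asc P s g) (hp : p ∈ P.parabolic {(s : G)}) :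
    (p ∈ P.B ∧ bw P (g * p) = bw P g) ∨ (p ∉ P.B ∧ bw P (g * p) = bw P g * σ P s) := by
  rcases bw_cases_of_singleton P s hp with h | h
  · exact Or.inl ⟨(bw_eq_one_iff P).1 h, bw_mul_B P ((bw_eq_one_iff P).1 h)⟩
  · refine Or.inr ⟨fun hB => σ_ne_one P s (h.symm.trans ((bw_eq_one_iff P).2 hB)), ?_⟩
    obtain ⟨b, hb, b', hb', e⟩ := exists_eq_mul_mul' P (g := p) (n := ⟨(s : G), P.subset s.2⟩) h
    have hss := P.sq_mem s s.2
    have e1 : (g * p)⁻¹ = b'⁻¹ * ((s : G) * (((s : G) * (s : G))⁻¹ * b⁻¹) * g⁻¹) := by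
      rw [e]
      push_cast
      group
    have hβ : ((s : G) * (s : G))⁻¹ * b⁻¹ ∈ P.B := P.B.mul_mem (P.B.inv_mem hss) (P.B.inv_mem hb)
    have hlen : len P (bw P g⁻¹) ≤ len P (σ P s * bw P g⁻¹) := by
      rw [bw_inv, len_inv, ← len_inv P (σ P s * (bw P g)⁻¹), mul_inv_rev, inv_inv, σ_inv]
      exact hg
    have h2 := bw_s_mul_of_le P s hβ hlen
    have h3 : bw P (g * p)⁻¹ = σ P s * (bw P g)⁻¹ := by
      rw [e1, bw_B_mul P (P.B.inv_mem hb'), h2, bw_inv]
    rw [bw_inv] at h3
    rw [← inv_inv (bw P (g * p)), h3, mul_inv_rev, inv_inv, σ_inv]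

theorem asc_unique (s : P.S) {g p : G} (hg : Asc P s g) (hgp : Asc P s (g * p))
    (hp : p ∈ P.parabolic {(s : G)}) : p ∈ P.B := by
  rcases bw_mul_parabolic P s hg hp with h | ⟨-, h⟩
  · exact h.1
  exfalso
  have h1 : len P (bw P g) ≤ len P (bw P g * σ P s) := hg
  have h2 : len P (bw P g * σ P s) ≤ len P (bw P g * σ P s * σ P s) := by
    rw [← h]; exact hgp
  rw [mul_σ_mul_σ] at h2
  have := len_mul_σ P s (bw P g)
  omega

theorem exists_asc (s : P.S) (g : G) : ∃ p ∈ P.parabolic {(s : G)}, Asc P s (g * p) := by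
  by_cases h : Asc P s g
  · exact ⟨1, one_mem _, by rwa [mul_one]⟩
  obtain ⟨b, hb, n, hn, b', hb', e⟩ := exists_eq_mul_mul P g
  have hsP : (s : G) ∈ P.parabolic {(s : G)} := subset_parabolic P _ rfl
  refine ⟨b'⁻¹ * (s : G), mul_mem (B_le_parabolic P _ (P.B.inv_mem hb')) hsP, ?_⟩
  have hns : π P (n * ⟨(s : G), P.subset s.2⟩) = bw P g * σ P s := by rw [map_mul, hn]; rfl
  have h1 : bw P (g * (b'⁻¹ * (s : G))) = bw P g * σ P s := by
    rw [← hns, ← bw_coe, ← bw_B_mul P (g := ((n * ⟨(s : G), P.subset s.2⟩ : P.N) : G)) hb]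
    congr 1
    rw [e]
    push_cast
    group
  show len P _ ≤ len P _
  rw [h1, mul_σ_mul_σ]
  unfold Asc at h
  omega

variable [Finite G]

/-- The cosets of `H` fixed by `a`. -/
abbrev Fix (a : G) (H : Subgroup G) : Type _ := {x : G ⧸ H // a • x = x}

theorem card_fix_parabolic (s : P.S) {a : G} (ha : a ∈ P.B) :
    Nat.card (Fix a (P.parabolic {(s : G)})) =
      Nat.card {x : Fix a P.B // Asc P s (x.1.out)} := by
  have hasc : ∀ {g g' : G}, g⁻¹ * g' ∈ P.B → Asc P s g → Asc P s g' := fun {g g'} h hg => by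
    unfold Asc at hg ⊢
    rw [show g' = g * (g⁻¹ * g') by group, bw_mul_B P h]
    exact hg
  let f : {x : Fix a P.B // Asc P s (x.1.out)} → Fix a (P.parabolic {(s : G)}) := fun x =>
    ⟨((x.1.1.out : G) : G ⧸ P.parabolic {(s : G)}), by
      have h := x.1.2
      rw [← QuotientGroup.out_eq' x.1.1, MulAction.Quotient.smul_coe, QuotientGroup.eq] at h
      rw [MulAction.Quotient.smul_coe, QuotientGroup.eq]
      exact B_le_parabolic P _ h⟩
  refine (Nat.card_eq_of_bijective f ⟨?_, ?_⟩).symm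
  · rintro ⟨⟨x, hx⟩, hxa⟩ ⟨⟨y, hy⟩, hya⟩ e
    have e' : x.out⁻¹ * y.out ∈ P.parabolic {(s : G)} := QuotientGroup.eq.1 (congrArg Subtype.val e)
    have := asc_unique P s hxa (by
      rw [show x.out * (x.out⁻¹ * y.out) = y.out by group]
      exact hya) e'
    refine Subtype.ext (Subtype.ext ?_)
    show x = y
    rw [← QuotientGroup.out_eq' x, ← QuotientGroup.out_eq' y, QuotientGroup.eq]
    exact this
  · rintro ⟨y, hy⟩
    obtain ⟨g₀, rfl⟩ := QuotientGroup.mk_surjective y
    obtain ⟨p, hp, hgp⟩ := exists_asc P s g₀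
    set g := g₀ * p with hg
    rw [MulAction.Quotient.smul_coe, QuotientGroup.eq] at hy
    have hy' : g⁻¹ * (a * g) ∈ P.parabolic {(s : G)} := by
      have : (a * g)⁻¹ * g ∈ P.parabolic {(s : G)} := by
        rw [show (a * g)⁻¹ * g = p⁻¹ * ((a • g₀)⁻¹ * g₀) * p by simp [hg, smul_eq_mul]; group]
        exact mul_mem (mul_mem (inv_mem hp) hy) hp
      simpa using inv_mem this
    have hfix : g⁻¹ * (a * g) ∈ P.B := asc_unique P s hgp (by
      rw [mul_inv_cancel_left]
      unfold Asc at hgp ⊢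
      rw [bw_B_mul P ha]
      exact hgp) hy'
    have hout : g⁻¹ * (Quotient.out (g : G ⧸ P.B)) ∈ P.B :=
      QuotientGroup.eq.1 (QuotientGroup.out_eq' (g : G ⧸ P.B)).symm
    refine ⟨⟨⟨(g : G ⧸ P.B), ?_⟩, hasc hout hgp⟩, Subtype.ext ?_⟩
    · rw [MulAction.Quotient.smul_coe, QuotientGroup.eq, smul_eq_mul]
      simpa using P.B.inv_mem hfix
    · show ((Quotient.out (g : G ⧸ P.B) : G) : G ⧸ P.parabolic {(s : G)}) = _
      rw [QuotientGroup.eq]
      have h1 : (Quotient.out (g : G ⧸ P.B))⁻¹ * g ∈ P.parabolic {(s : G)} := by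
        simpa using inv_mem (B_le_parabolic P _ hout)
      have := mul_mem h1 (inv_mem hp)
      simpa [hg, mul_assoc] using this

theorem fix_count (s t : P.S) (hst : s ≠ t) (hS : ∀ u : P.S, u = s ∨ u = t) {a : G} (ha : a ∈ P.B)
    (hno : ∀ g : G, g⁻¹ * a * g ∈ P.B → Asc P s g ∨ Asc P t g) :
    Nat.card (Fix a P.B) + 1 =
      Nat.card (Fix a (P.parabolic {(s : G)})) + Nat.card (Fix a (P.parabolic {(t : G)})) := by
  classical
  have := Fintype.ofFinite (Fix a P.B)
  have hc : ∀ u : P.S, Nat.card {x : Fix a P.B // Asc P u x.1.out} =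
      (Finset.univ.filter fun x : Fix a P.B => Asc P u x.1.out).card := fun u => by
    rw [Nat.card_eq_fintype_card, Fintype.card_subtype]
  rw [card_fix_parabolic P s ha, card_fix_parabolic P t ha, hc, hc,
    ← Finset.card_union_add_card_inter, Nat.card_eq_fintype_card (α := Fix a P.B), ← Finset.card_univ]
  have h1 : (Finset.univ.filter fun x : Fix a P.B => Asc P s x.1.out) ∪
      (Finset.univ.filter fun x : Fix a P.B => Asc P t x.1.out) = Finset.univ := by
    refine Finset.eq_univ_of_forall fun x => ?_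
    have hx := x.2
    rw [← QuotientGroup.out_eq' x.1, MulAction.Quotient.smul_coe, QuotientGroup.eq, smul_eq_mul] at hx
    rcases hno x.1.out (by simpa [mul_assoc] using P.B.inv_mem hx) with h | h <;> simp [h]
  rw [h1]
  congr 1
  symm
  rw [Finset.card_eq_one]
  refine ⟨⟨((1 : G) : G ⧸ P.B), by
    rw [MulAction.Quotient.smul_coe, QuotientGroup.eq, smul_eq_mul]
    simpa using P.B.inv_mem ha⟩, ?_⟩
  ext x
  simp only [Finset.mem_inter, Finset.mem_filter, Finset.mem_univ, true_and, Finset.mem_singleton]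
  constructor
  · rintro ⟨hs, ht⟩
    have hw : bw P x.1.out = 1 := by
      by_contra hne
      obtain ⟨u, w', e, hl⟩ := exists_snoc P hne
      have hu : Asc P u x.1.out := by rcases hS u with rfl | rfl <;> assumption
      unfold Asc at hu
      rw [e, mul_σ_mul_σ, ← e] at hu
      omega
    refine Subtype.ext ?_
    show x.1 = _
    rw [← QuotientGroup.out_eq' x.1, QuotientGroup.eq, mul_one]
    exact P.B.inv_mem ((bw_eq_one_iff P).1 hw)
  · rintro rfl
    have h0 : bw P ((Quotient.out ((1 : G) : G ⧸ P.B)) : G) = 1 := (bw_eq_one_iff P).2 (by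
      have := QuotientGroup.eq.1 (QuotientGroup.out_eq' ((1 : G) : G ⧸ P.B))
      simpa using P.B.inv_mem this)
    unfold Asc
    simp [h0]

/-- An element of prime order which fixes no coset acts semiregularly on the fixed cosets. -/
theorem dvd_card_fix {r : ℕ} [hr : Fact r.Prime] {a b : G} (hab : Commute a b) (hb : b ^ r = 1)
    (H : Subgroup G) (hfree : ∀ g : G, g⁻¹ * b * g ∉ H) : r ∣ Nat.card (Fix a H) := by
  classical
  have := Fintype.ofFinite (Fix a H)
  let f : Fix a H → Fix a H := fun x => ⟨b • x.1, by rw [smul_smul, hab.eq, ← smul_smul, x.2]⟩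
  have hpow : ∀ n : ℕ, ∀ x : Fix a H, ((f^[n]) x).1 = b ^ n • x.1 := by
    intro n
    induction n with
    | zero => intro x; simp
    | succ n ih => intro x; rw [Function.iterate_succ_apply', pow_succ', mul_smul, ← ih]
  have hbij : Function.Bijective f := by
    refine ⟨fun x y e => Subtype.ext (MulAction.injective b (congrArg Subtype.val e)), ?_⟩
    intro x
    refine ⟨(f^[r - 1]) x, ?_⟩
    refine Subtype.ext ?_
    have h1 := hpow r x
    rw [hb, one_smul, show r = r - 1 + 1 by have := hr.out.pos; omega, Function.iterate_succ_apply'] at h1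
    exact h1
  let σ : Equiv.Perm (Fix a H) := Equiv.ofBijective f hbij
  have hσ : σ ^ r ^ 1 = 1 := by
    rw [pow_one]
    refine Equiv.ext fun x => Subtype.ext ?_
    rw [← Equiv.Perm.iterate_eq_pow]
    show ((f^[r]) x).1 = x.1
    rw [hpow, hb, one_smul]
  have h := Equiv.Perm.card_compl_support_modEq hσ
  have hs : σ.supportᶜ = ∅ := by
    rw [Finset.eq_empty_iff_forall_notMem]
    intro x hx
    rw [Finset.mem_compl, Equiv.Perm.notMem_support] at hx
    have e : b • x.1 = x.1 := congrArg Subtype.val hx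
    rw [← QuotientGroup.out_eq' x.1, MulAction.Quotient.smul_coe, QuotientGroup.eq, smul_eq_mul] at e
    exact hfree x.1.out (by simpa [mul_assoc] using H.inv_mem e)
  rw [hs, Finset.card_empty] at h
  rw [Nat.card_eq_fintype_card]
  exact (Nat.modEq_zero_iff_dvd).1 h.symm

end Cfsg.Agent.ChevTwSec
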