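import Cfsg.Agent.ChevTwSec.FixCount
import Cfsg.Agent.ChevTw.TwBN
import Cfsg.Agent.ChevGrp.Thms
import Cfsg.Agent.ChevGrp.UnipCount

/-!
Descents, rank one parabolics and fixed cosets of `p`-elements in a twisted group (owner: helper33).
-/

set_option autoImplicit false

namespace Cfsg.Agent.ChevTwSec

open Cfsg.Lie Cfsg.Agent.ChevGrp Cfsg.Agent.ChevTw Cfsg.Agent.BNPair
open scoped MatrixGroups

variable {D : ChevalleyDatum} {F : Type*} [Field F] {len : ℕ → ℕ} {hS : Rules D F}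
  {T : Twist (glSys hS)} {ι : Type*} [Fintype ι] [DecidableEq ι] {O : Orbits T ι}
  (W : TwGroup O) (hR : RootTable D len)

/-- A pair as given by `exists_BNPair_gens`. -/
structure IsTwPair (P : Cfsg.BNPair ↥W.Tw) : Prop where
  hB : P.B = ((glSys hS).Bbar ⊓ W.Tw).subgroupOf W.Tw
  hN : P.N = ((glSys hS).Nbar ⊓ W.Tw).subgroupOf W.Tw
  hS' : P.S = {n : ↥W.Tw | ∃ J, (n : GL D.Idx F) = W.nJ hS hR J}

variable {W hR} {P : Cfsg.BNPair ↥W.Tw} {ks0 : List ι}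

theorem IsTwPair.mem_B (hP : IsTwPair W hR P) (g : ↥W.Tw) : g ∈ P.B ↔ (g : GL D.Idx F) ∈ (glSys hS).Bbar := by
  rw [hP.hB, Subgroup.mem_subgroupOf, Subgroup.mem_inf]
  exact ⟨fun h => h.1, fun h => ⟨h, g.2⟩⟩

theorem IsTwPair.mem_N (hP : IsTwPair W hR P) (g : ↥W.Tw) : g ∈ P.N ↔ (g : GL D.Idx F) ∈ (glSys hS).Nbar := by
  rw [hP.hN, Subgroup.mem_subgroupOf, Subgroup.mem_inf]
  exact ⟨fun h => h.1, fun h => ⟨h, g.2⟩⟩

theorem conj_fixPos_not_mem (J : ι) {c : GL D.Idx F} (hc : c ∈ fixUS T (O.posJ J)) (hc1 : c ≠ 1) :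
    (W.nJ hS hR J)⁻¹ * c * W.nJ hS hR J ∉ (glSys hS).Bbar := fun h => by
  obtain ⟨hsN, hsc, hsT⟩ := W.nJ_spec hS hR J
  have hv : (W.nJ hS hR J)⁻¹ * c * ((W.nJ hS hR J)⁻¹)⁻¹ ∈ fixUS T (O.negJ J) := by
    refine W.conj_neg_fix (inv_mem hsT) (hsc.inv hR) O.posJ_lt (fun r hr => ?_) hc
    have e : act D (O.wJ J).reverse r = act D (O.wJ J) r := by
      conv_lhs => rw [← O.winv J r hr.1.1]
      exact hR.act_reverse_act (O.wJ J) (hR.act_lt (O.wJ J) hr.1.1)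
    rw [e]
    exact O.act_wJ_mem hR J hr
  rw [inv_inv] at hv
  have hb : (W.nJ hS hR J)⁻¹ * c * W.nJ hS hR J ∈ (glSys hS).Vbar ⊓ (glSys hS).Bbar :=
    Subgroup.mem_inf.2 ⟨(glSys hS).US_mono (fun r hr => hr.1) hv.1, h⟩
  rw [(glSys hS).Vbar_inf_Bbar hS hR, Subgroup.mem_bot] at hb
  refine hc1 ?_
  have := congrArg (fun z => W.nJ hS hR J * z * (W.nJ hS hR J)⁻¹) hb
  simpa [mul_assoc] using this

/-- If the orbit roots stay positive under the element then the length rises. -/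
theorem asc_of_pos (hP : IsTwPair W hR P) (h0 : IsLongest O ks0) (J : ι) (s : P.S)
    (hs : ((s : ↥W.Tw) : GL D.Idx F) = W.nJ hS hR J) {n : P.N} {w : List (Fin D.rank)}
    (hw : (glSys hS).ConjP ((n : ↥W.Tw) : GL D.Idx F) w) (hpos : ∀ r ∈ O.posJ J, D.IsPosRoot (act D w r)) :
    Asc P s (n : ↥W.Tw) := by
  by_contra hasc
  obtain ⟨c, hc, hc1⟩ := W.exPos hR J
  set c' : ↥W.Tw := ⟨c, W.fixPos_mem J hc⟩
  set g : ↥W.Tw := (n : ↥W.Tw) with hg
  have hβ : g * c' * g⁻¹ ∈ P.B := (hP.mem_B _).2 (by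
    push_cast
    exact (glSys hS).Ubar_le_Bbar
      (W.conj_pos_mem hS hR h0 (n : ↥W.Tw).2 hw O.posJ_lt hpos hc).1)
  -- on the one side
  have h1 : bw P (g * c' * (s : ↥W.Tw)) = bw P g * σ P s := by
    rw [show g * c' * (s : ↥W.Tw) = g * c' * g⁻¹ * ((n * ⟨(s : ↥W.Tw), P.subset s.2⟩ : P.N) : ↥W.Tw) by
      rw [hg]; push_cast; group, bw_B_mul P hβ, bw_coe, map_mul, hg, bw_coe]
    rfl
  -- on the other side
  set g' : ↥W.Tw := g * (s : ↥W.Tw)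
  set q : ↥W.Tw := (s : ↥W.Tw)⁻¹ * c' * (s : ↥W.Tw)
  have hwg : bw P g' = bw P g * σ P s := by
    rw [show g' = ((n * ⟨(s : ↥W.Tw), P.subset s.2⟩ : P.N) : ↥W.Tw) by push_cast; rfl, bw_coe, map_mul, hg,
      bw_coe]
    rfl
  have hg' : Asc P s g' := by
    unfold Asc at hasc ⊢
    rw [hwg, mul_σ_mul_σ]
    omega
  have hqP : q ∈ P.parabolic {(s : ↥W.Tw)} := by
    have hsP : (s : ↥W.Tw) ∈ P.parabolic {(s : ↥W.Tw)} := subset_parabolic P _ rfl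
    refine mul_mem (mul_mem (inv_mem hsP) (B_le_parabolic P _ ((hP.mem_B _).2 ?_))) hsP
    exact (glSys hS).Ubar_le_Bbar ((glSys hS).US_mono (fun r hr => hr.1) hc.1)
  have hqB : q ∉ P.B := fun h => conj_fixPos_not_mem (W := W) (hR := hR) J hc hc1 (by
    have := (hP.mem_B _).1 h
    simp only [q, c', Subgroup.coe_mul, Subgroup.coe_inv, hs] at this
    exact this)
  rcases bw_mul_parabolic P s hg' hqP with h | ⟨-, h⟩
  · exact hqB h.1
  rw [show g' * q = g * c' * (s : ↥W.Tw) by simp [g', q, mul_assoc], h1, hwg, mul_σ_mul_σ] at h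
  exact σ_ne_one P s (mul_eq_left.1 h)

variable [Finite F]

include hR in
theorem pow_mem_U (p : ℕ) [Fact p.Prime] [CharP F p] (h0 : IsLongest O ks0)
    (hH : Nat.Coprime (Nat.card ↥((glSys hS).Hbar ⊓ W.Tw)) p) {b : GL D.Idx F}
    (hb : b ∈ (glSys hS).Bbar ⊓ W.Tw) {k : ℕ} (hk : b ^ p ^ k = 1) : b ∈ (glSys hS).Ubar ⊓ W.Tw := by
  obtain ⟨u, hu, h, hh, rfl⟩ := W.B_decomp hS hR (O.comm_word hR ks0) (h0.invSet_eq hR)
    (Subgroup.mem_inf.1 hb).1 (Subgroup.mem_inf.1 hb).2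
  have hpow : ∀ j : ℕ, ∃ w ∈ (glSys hS).Ubar, (u * h) ^ j = w * h ^ j := by
    intro j
    induction j with
    | zero => exact ⟨1, one_mem _, by simp⟩
    | succ j ih =>
      obtain ⟨w, hw, e⟩ := ih
      refine ⟨w * (h ^ j * u * (h ^ j)⁻¹), mul_mem hw ((Subgroup.mem_normalizer_iff.1
        ((glSys hS).Hbar_le_normalizer_Ubar hS hR (pow_mem (Subgroup.mem_inf.1 hh).1 j)) u).1
          (Subgroup.mem_inf.1 hu).1), ?_⟩
      rw [pow_succ, e, pow_succ]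
      group
  obtain ⟨w, hw, e⟩ := hpow (p ^ k)
  rw [hk] at e
  have h1 : h ^ p ^ k = 1 := by
    have hm : h ^ p ^ k ∈ (glSys hS).Ubar ⊓ (glSys hS).Hbar := Subgroup.mem_inf.2
      ⟨by rw [eq_inv_of_mul_eq_one_right e.symm]; exact inv_mem hw, pow_mem (Subgroup.mem_inf.1 hh).1 _⟩
    rwa [(glSys hS).Ubar_inf_Hbar hS hR, Subgroup.mem_bot] at hm
  have h2 : h = 1 := orderOf_eq_one_iff.1 (Nat.eq_one_of_dvd_coprimes (hH.pow_right k)
    (Subgroup.orderOf_dvd_natCard _ hh) (orderOf_dvd_of_pow_eq_one h1))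
  rw [h2, mul_one]
  exact hu

/-- No coset fixed by a non-trivial `p`-element has two descents. -/
theorem fixed_asc (hP : IsTwPair W hR P) (p : ℕ) [Fact p.Prime] [CharP F p] (h0 : IsLongest O ks0)
    (hH : Nat.Coprime (Nat.card ↥((glSys hS).Hbar ⊓ W.Tw)) p) {a : ↥W.Tw} (ha : a ∈ P.B) (ha1 : a ≠ 1)
    {k : ℕ} (hk : a ^ p ^ k = 1) {g : ↥W.Tw} (hg : g⁻¹ * a * g ∈ P.B) : ∃ s : P.S, Asc P s g := by
  by_contra hno
  push Not at hno
  obtain ⟨b, hb, n, hn, b', hb', e⟩ := exists_eq_mul_mul P g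
  obtain ⟨w, hw⟩ := TwGroup.conjP_of_mem_Nbar hS hR ((hP.mem_N _).1 n.2)
  have hwc : T.Comm w := W.comm_of_conjP hS hR (n : ↥W.Tw).2 hw
  have hall : ∀ i : Fin D.rank, D.IsNegRoot (act D w (D.simple i)) := by
    intro i
    obtain ⟨J, hJ⟩ := O.cover i
    have hsmem : (⟨W.nJ hS hR J, (W.nJ_spec hS hR J).2.2⟩ : ↥W.Tw) ∈ P.S := by
      rw [hP.hS']
      exact ⟨J, rfl⟩
    by_contra hneg
    refine hno ⟨_, hsmem⟩ ?_
    have : Asc P ⟨_, hsmem⟩ (n : ↥W.Tw) := by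
      refine asc_of_pos hP h0 J ⟨_, hsmem⟩ rfl hw fun r hr => ?_
      refine pos_of_support hR (O.nodes J) w (fun j hj => ?_) hr.1 hr.2
      by_contra hjp
      have h1 := O.orbit_neg hR hwc hj (hR.neg_of_not_pos (hR.act_lt w (hR.simple_lt j j.2)) hjp)
      exact hneg (h1 (O.simple_mem hR hJ)).2
    unfold Asc at this ⊢
    rwa [e, bw_conj_B P hb hb']
  have hinv : ∀ r, D.IsPosRoot r → D.IsNegRoot (act D w r) := fun r hr =>
    neg_of_support hR Set.univ w (fun i _ => hall i) hr ⟨hr.1, fun i _ hi => absurd (Set.mem_univ i) hi⟩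
  set a' : ↥W.Tw := b⁻¹ * a * b with ha'
  set a'' : ↥W.Tw := (n : ↥W.Tw)⁻¹ * a' * (n : ↥W.Tw) with ha''
  have h1 : a' ∈ P.B := mul_mem (mul_mem (inv_mem hb) ha) hb
  have h2 : a'' ∈ P.B := by
    rw [show a'' = b' * (g⁻¹ * a * g) * b'⁻¹ by simp only [ha'', ha', e]; group]
    exact mul_mem (mul_mem hb' hg) (inv_mem hb')
  have hk2 : ∀ {x z : ↥W.Tw}, x ^ p ^ k = 1 → (z⁻¹ * x * z) ^ p ^ k = 1 := fun {x z} hx => by
    have := conj_pow (i := p ^ k) (a := z⁻¹) (b := x)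
    rw [inv_inv] at this
    rw [this, hx]
    simp
  have hk'' : ((a'' : ↥W.Tw) : GL D.Idx F) ^ p ^ k = 1 := by
    rw [← Subgroup.coe_pow, ha'', hk2 (ha' ▸ hk2 hk)]
    rfl
  have hU := pow_mem_U (hR := hR) p h0 hH (Subgroup.mem_inf.2 ⟨(hP.mem_B _).1 h2, a''.2⟩) hk''
  have hV : ((a' : ↥W.Tw) : GL D.Idx F) ∈ (glSys hS).Vbar ⊓ (glSys hS).Bbar := by
    refine Subgroup.mem_inf.2 ⟨?_, (hP.mem_B _).1 h1⟩
    rw [show a' = (n : ↥W.Tw) * a'' * (n : ↥W.Tw)⁻¹ by simp only [ha'']; group]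
    push_cast
    refine (glSys hS).US_mono ?_ (conjP_mem_US hw (fun r hr => hr.1) (Subgroup.mem_inf.1 hU).1)
    rintro _ ⟨r, hr, rfl⟩
    exact hinv r hr
  rw [(glSys hS).Vbar_inf_Bbar hS hR, Subgroup.mem_bot] at hV
  have h3 : a' = 1 := Subtype.ext hV
  refine ha1 ?_
  rw [show a = b * a' * b⁻¹ by simp only [ha']; group, h3]
  simp

/-- The order of a rank one parabolic. -/
theorem card_parabolic (hP : IsTwPair W hR P) (h0 : IsLongest O ks0) (J : ι) (s : P.S)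
    (hs : ((s : ↥W.Tw) : GL D.Idx F) = W.nJ hS hR J) :
    Nat.card ↥(P.parabolic {(s : ↥W.Tw)}) = Nat.card ↥P.B * (Nat.card ↥(fixUS T (O.posJ J)) + 1) := by
  classical
  set Q := P.parabolic {(s : ↥W.Tw)}
  set B' := P.B.subgroupOf Q
  have hcard : Nat.card ↥B' = Nat.card ↥P.B :=
    Nat.card_congr (Subgroup.subgroupOfEquivOfLe (B_le_parabolic P _)).toEquiv
  rw [← B'.card_mul_index, hcard, Subgroup.index]
  congr 1
  rw [← Finite.card_option]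
  have hsQ : (s : ↥W.Tw) ∈ Q := subset_parabolic P _ rfl
  have hcQ : ∀ c : ↥(fixUS T (O.posJ J)), (⟨c, W.fixPos_mem J c.2⟩ : ↥W.Tw) ∈ Q := fun c =>
    B_le_parabolic P _ ((hP.mem_B _).2
      ((glSys hS).Ubar_le_Bbar ((glSys hS).US_mono (fun r hr => hr.1) c.2.1)))
  symm
  refine Nat.card_eq_of_bijective (fun o => match o with
    | none => QuotientGroup.mk 1
    | some c => QuotientGroup.mk (⟨⟨c, W.fixPos_mem J c.2⟩ * (s : ↥W.Tw), mul_mem (hcQ c) hsQ⟩ : ↥Q)) ⟨?_, ?_⟩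
  · have hkey : ∀ c : ↥(fixUS T (O.posJ J)),
        (⟨c, W.fixPos_mem J c.2⟩ : ↥W.Tw) * (s : ↥W.Tw) ∉ P.B := fun c h => by
      refine not_mem_B P s.2 ?_
      have hc : (⟨c, W.fixPos_mem J c.2⟩ : ↥W.Tw) ∈ P.B := (hP.mem_B _).2
        ((glSys hS).Ubar_le_Bbar ((glSys hS).US_mono (fun r hr => hr.1) c.2.1))
      simpa using mul_mem (inv_mem hc) h
    rintro (_ | c) (_ | d) e
    · rfl
    · exfalso
      have e' := QuotientGroup.eq.1 e
      rw [inv_one, one_mul, Subgroup.mem_subgroupOf] at e'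
      exact hkey d e'
    · exfalso
      have e' := QuotientGroup.eq.1 e
      rw [mul_one, Subgroup.mem_subgroupOf] at e'
      exact hkey c (by simpa using inv_mem e')
    · have e' := QuotientGroup.eq.1 e
      rw [Subgroup.mem_subgroupOf, hP.mem_B] at e'
      push_cast at e'
      rw [hs] at e'
      by_contra hne
      have hcd : (c : GL D.Idx F)⁻¹ * (d : GL D.Idx F) ∈ fixUS T (O.posJ J) := by
        refine ⟨mul_mem (inv_mem c.2.1) d.2.1, ?_⟩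
        exact W.fixed (mul_mem (inv_mem (W.fixPos_mem J c.2)) (W.fixPos_mem J d.2))
      refine conj_fixPos_not_mem (W := W) (hR := hR) J hcd (fun h1 => hne ?_) ?_
      · rw [inv_mul_eq_one] at h1
        exact congrArg some (Subtype.ext h1)
      · simpa [mul_assoc] using e'
  · intro x
    obtain ⟨⟨g, hgQ⟩, rfl⟩ := QuotientGroup.mk_surjective x
    rcases bw_cases_of_singleton P s hgQ with h | h
    · refine ⟨none, QuotientGroup.eq.2 ?_⟩
      rw [Subgroup.mem_subgroupOf]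
      simpa using (bw_eq_one_iff P).1 h
    obtain ⟨b, hb, b', hb', e⟩ := exists_eq_mul_mul' P (g := g) (n := ⟨(s : ↥W.Tw), P.subset s.2⟩) h
    obtain ⟨u, hu, t, ht, eb⟩ := W.B_decomp hS hR (O.comm_word hR ks0) (h0.invSet_eq hR)
      ((hP.mem_B _).1 hb) b.2
    obtain ⟨huU, hufix⟩ := (W.fixUbar_eq hS hR (O.comm_word hR ks0) (h0.invSet_eq hR)).1 (inv_mem hu)
    set A : Set ℕ := {r | D.IsPosRoot r ∧ ¬ D.InRootSub (O.nodes J) r} with hA
    have hAc : UClosed D len (htHom D) A := by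
      rw [hA, ← hR.degPos_outJ_eq]
      exact hR.posSet_closed.subset_closed (fun r hr => hR.pos_of_degPos _ hr)
        fun r hr x hx hne c hc => (hR.degPos_closed _).closed r hr x hx hne c hc
    obtain ⟨a, haA, c, hc, eu⟩ := (glSys hS).US_eq_mul hR hR.posSet_closed hAc (O.posJ_closed hR J)
      (Set.ext fun r => ⟨fun h => h.elim (fun h => h.1) fun h => h.1, fun h => by
        by_cases hJ : D.InRootSub (O.nodes J) r
        · exact Or.inr ⟨h, hJ⟩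
        · exact Or.inl ⟨h, hJ⟩⟩)
      (Set.disjoint_left.2 fun r h1 h2 => h1.2 h2.2) huU
    have hAlt : ∀ r ∈ A, r < D.nroots := fun r hr => hr.1.1
    have hAρ : ∀ r ∈ A, T.ρ r ∈ A := fun r hr =>
      ⟨T.ρ_pos r hr.1, fun hin => O.ρ_out hR J hr.1 (fun h => hr.2 h.2) ⟨T.ρ_pos r hr.1, hin⟩⟩
    rw [eu, T.sig_mul a (Twist.US_le_Gbar hAlt haA) c (Twist.US_le_Gbar O.posJ_lt hc)] at hufix
    obtain ⟨ea, ec⟩ := split_unique hS hR O J (T.sig_US hAlt hAρ haA) haA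
      (posJ_le_LJ O J (T.sig_US O.posJ_lt (fun r hr => O.ρ_posJ hR J hr) hc)) (posJ_le_LJ O J hc) hufix
    -- `u = c⁻¹ a⁻¹`
    have hcf : c ∈ fixUS T (O.posJ J) := ⟨hc, ec⟩
    have hci : c⁻¹ ∈ fixUS T (O.posJ J) :=
      ⟨inv_mem hc, W.fixed (inv_mem (W.fixPos_mem J hcf))⟩
    obtain ⟨hsN, hsc, hsT⟩ := W.nJ_spec hS hR J
    have hb0 : (W.nJ hS hR J)⁻¹ * a * W.nJ hS hR J ∈ (glSys hS).Ubar := by
      have := conjP_mem_US (hsc.inv hR) hAlt haA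
      rw [inv_inv] at this
      refine (glSys hS).US_mono ?_ this
      rintro _ ⟨r, hr, rfl⟩
      have e : act D (O.wJ J).reverse r = act D (O.wJ J) r := by
        conv_lhs => rw [← O.winv J r hr.1.1]
        exact hR.act_reverse_act (O.wJ J) (hR.act_lt (O.wJ J) hr.1.1)
      rw [e]
      exact (O.act_wJ_out hR J hr.1 fun h => hr.2 h.2).1
    refine ⟨some ⟨c⁻¹, hci⟩, QuotientGroup.eq.2 ?_⟩
    rw [Subgroup.mem_subgroupOf, hP.mem_B]
    push_cast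
    rw [e]
    push_cast
    rw [eb, hs]
    have hth : (W.nJ hS hR J)⁻¹ * t * W.nJ hS hR J ∈ (glSys hS).Bbar := by
      refine (glSys hS).Hbar_le_Bbar ?_
      simpa using Sys.conj_mem_Hbar hS hR (inv_mem hsN) (Subgroup.mem_inf.1 ht).1
    have key : (c⁻¹ * W.nJ hS hR J)⁻¹ * (u * t * W.nJ hS hR J * (b' : GL D.Idx F)) =
        ((W.nJ hS hR J)⁻¹ * a * W.nJ hS hR J)⁻¹ * ((W.nJ hS hR J)⁻¹ * t * W.nJ hS hR J) * (b' : GL D.Idx F) := by
      rw [show u = (a * c)⁻¹ by rw [← eu, inv_inv]]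
      group
    rw [key]
    exact mul_mem (mul_mem (inv_mem ((glSys hS).Ubar_le_Bbar hb0)) hth) ((hP.mem_B _).1 hb')

end Cfsg.Agent.ChevTwSec
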